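import Groth.Agent.H22.ExtendFree.Core
import Groth.Agent.Lib.BlowUpExists.Proper
import Groth.Agent.Lib.Ideal.Prime
import Groth.Agent.Lib.Ideal.BlowUp
import Groth.Agent.Lib.BlowUpExists.Exists

/-!
# A blow-up making several coherent modules locally free modulo torsion
-/

set_option autoImplicit false
set_option maxHeartbeats 1000000

noncomputable section

universe u v

open CategoryTheory CategoryTheory.Limits AlgebraicGeometry TopologicalSpace Opposite

namespace Groth.Agent.H22.ExtendFree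

open Groth.Agent Groth.Agent.Lib Groth.Agent.Lib.Ideal.Prime

variable {X Y : Scheme.{u}}

theorem stalkIdeal_mul (I J : X.IdealSheafData) (x : X) :
    stalkIdeal (I * J) x = stalkIdeal I x * stalkIdeal J x := by
  obtain ⟨U, hU, hx, -⟩ := exists_isAffineOpen_mem_and_subset (show x ∈ (⊤ : X.Opens) from trivial)
  rw [stalkIdeal_eq _ ⟨U, hU⟩ hx, stalkIdeal_eq I ⟨U, hU⟩ hx, stalkIdeal_eq J ⟨U, hU⟩ hx,
    Scheme.IdealSheafData.ideal_mul, Pi.mul_apply, Ideal.map_mul]

theorem stalkIdeal_sup (I J : X.IdealSheafData) (x : X) :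
    stalkIdeal (I ⊔ J) x = stalkIdeal I x ⊔ stalkIdeal J x := by
  obtain ⟨U, hU, hx, -⟩ := exists_isAffineOpen_mem_and_subset (show x ∈ (⊤ : X.Opens) from trivial)
  rw [stalkIdeal_eq _ ⟨U, hU⟩ hx, stalkIdeal_eq I ⟨U, hU⟩ hx, stalkIdeal_eq J ⟨U, hU⟩ hx,
    Scheme.IdealSheafData.ideal_sup, Pi.sup_apply, Ideal.map_sup]

theorem stalkIdeal_bot (x : X) : stalkIdeal (⊥ : X.IdealSheafData) x = ⊥ := by
  obtain ⟨U, hU, hx, -⟩ := exists_isAffineOpen_mem_and_subset (show x ∈ (⊤ : X.Opens) from trivial)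
  rw [stalkIdeal_eq _ ⟨U, hU⟩ hx, Scheme.IdealSheafData.ideal_bot]
  exact Ideal.map_bot

theorem stalkIdeal_finsetSup {ι : Type*} (s : Finset ι) (I : ι → X.IdealSheafData) (x : X) :
    stalkIdeal (s.sup I) x = s.sup fun i => stalkIdeal (I i) x := by
  classical
  induction s using Finset.induction with
  | empty => rw [Finset.sup_empty, Finset.sup_empty, stalkIdeal_bot]
  | insert a s _ ih => rw [Finset.sup_insert, Finset.sup_insert, stalkIdeal_sup, ih]

theorem notMem_support_iff (I : X.IdealSheafData) (x : X) :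
    x ∉ I.support ↔ stalkIdeal I x = ⊤ := by
  obtain ⟨U, hU, hx, -⟩ := exists_isAffineOpen_mem_and_subset (show x ∈ (⊤ : X.Opens) from trivial)
  rw [stalkIdeal_eq _ ⟨U, hU⟩ hx,
    Scheme.IdealSheafData.mem_support_iff_of_mem (U := ⟨U, hU⟩) hx, Scheme.mem_zeroLocus_iff]
  constructor
  · intro h
    push Not at h
    obtain ⟨a, ha, hxa⟩ := h
    exact Ideal.eq_top_of_isUnit_mem _ (Ideal.mem_map_of_mem _ ha) ((X.mem_basicOpen a x hx).1 hxa)
  · intro h hc
    refine (IsLocalRing.maximalIdeal.isMaximal (X.presheaf.stalk x)).ne_top (top_le_iff.1 (h ▸ ?_))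
    rw [Ideal.map_le_iff_le_comap]
    exact fun a ha hu => hc a ha ((X.mem_basicOpen a x hx).2 hu)

theorem stalkIdeal_comap (f : X ⟶ Y) (I : Y.IdealSheafData) (x : X) :
    stalkIdeal (I.comap f) x = (stalkIdeal I (f x)).map (f.stalkMap x).hom := by
  obtain ⟨U, V, -, hxV, hU', -, hle⟩ := Ideal.Comap.exists_affine_le_preimage f x
    (show x ∈ (⊤ : X.Opens) from trivial) (show f x ∈ (⊤ : Y.Opens) from trivial)
  rw [stalkIdeal_eq _ V hxV, stalkIdeal_eq I U (hle hxV), Ideal.Comap.ideal_comap f I U V hle,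
    Ideal.map_map, Ideal.map_map]
  congr 1
  ext a
  exact (Scheme.Hom.germ_stalkMap_apply f U.1 x (hle hxV) a).trans
    (TopCat.Presheaf.germ_res_apply X.presheaf (homOfLE hle) x hxV (f.app U.1 a)).symm |>.symm

/-- The ideal of an open and closed subset. -/
theorem stalkIdeal_ker_compl [IsLocallyNoetherian X] (C : X.Opens) (hC : IsClosed (C : Set X)) (x : X) :
    (x ∈ C → stalkIdeal (Scheme.Opens.ι (⟨(C : Set X)ᶜ, hC.isOpen_compl⟩ : X.Opens)).ker x = ⊤) ∧
      (x ∉ C → stalkIdeal (Scheme.Opens.ι (⟨(C : Set X)ᶜ, hC.isOpen_compl⟩ : X.Opens)).ker x = ⊥) := by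
  set O : X.Opens := ⟨(C : Set X)ᶜ, hC.isOpen_compl⟩
  constructor
  · intro hx
    obtain ⟨W, hW, hxW, hWC⟩ := exists_isAffineOpen_mem_and_subset hx
    rw [stalkIdeal_eq _ ⟨W, hW⟩ hxW]
    refine Ideal.eq_top_of_isUnit_mem _ (Ideal.mem_map_of_mem _ (?_ : (1 : Γ(X, W)) ∈ _)) (by simp)
    rw [Scheme.Hom.ker_apply, RingHom.mem_ker]
    haveI : IsEmpty ↥(O.ι ⁻¹ᵁ W) := ⟨fun y => y.1.2 (hWC y.2)⟩
    refine TopCat.Presheaf.section_ext (O : Scheme.{u}).sheaf _ _ 0 fun y hy => ?_
    exact isEmptyElim (⟨y, hy⟩ : ↥(O.ι ⁻¹ᵁ W))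
  · intro hx
    obtain ⟨W, hW, hxW, -⟩ := exists_isAffineOpen_mem_and_subset (show x ∈ (⊤ : X.Opens) from trivial)
    rw [stalkIdeal_eq _ ⟨W, hW⟩ hxW, eq_bot_iff, Ideal.map_le_iff_le_comap]
    intro a ha
    rw [Scheme.Hom.ker_apply, RingHom.mem_ker] at ha
    rw [Ideal.mem_comap, Ideal.mem_bot]
    let y : (O : Scheme.{u}) := ⟨x, hx⟩
    apply (ConcreteCategory.bijective_of_isIso (O.ι.stalkMap y)).injective
    refine ((Scheme.Hom.germ_stalkMap_apply O.ι W y hxW a).trans ((congrArg _ ha).trans (map_zero _))).trans ?_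
    exact (map_zero _).symm

/-- The Fitting ideal of varying index. -/
theorem exists_rankIdeal [IsNoetherian X] (F : X.Modules) [F.IsQuasicoherent]
    [SheafOfModules.IsFiniteType (R := X.ringCatSheaf) F] (k : X → ℕ) (hk : IsLocallyConstant k) :
    ∃ J : X.IdealSheafData, ∀ x : X,
      stalkIdeal J x = Fitt.ideal (X.presheaf.stalk x) (F.presheaf.stalk x) (k x) := by
  classical
  let C : ℕ → X.Opens := fun r => ⟨k ⁻¹' {r}, hk.isOpen_fiber r⟩
  have hC : ∀ r, IsClosed (C r : Set X) := fun r => hk.isClosed_fiber r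
  let K : ℕ → X.IdealSheafData := fun r =>
    (Scheme.Opens.ι (⟨(C r : Set X)ᶜ, (hC r).isOpen_compl⟩ : X.Opens)).ker
  refine ⟨hk.range_finite.toFinset.sup fun r => Fitt.sheafIdeal F r * K r, fun x => ?_⟩
  obtain ⟨U, hU, hx, -⟩ := exists_isAffineOpen_mem_and_subset (show x ∈ (⊤ : X.Opens) from trivial)
  have hF : ∀ r, stalkIdeal (Fitt.sheafIdeal F r) x =
      Fitt.ideal (X.presheaf.stalk x) (F.presheaf.stalk x) r := fun r => by
    rw [stalkIdeal_eq _ ⟨U, hU⟩ hx, FittSheaf.map_sheafIdeal]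
  rw [stalkIdeal_finsetSup]
  refine le_antisymm (Finset.sup_le fun r _ => ?_) ?_
  · rw [stalkIdeal_mul, hF]
    by_cases hr : k x = r
    · rw [← hr]; exact Ideal.mul_le_left
    · rw [(stalkIdeal_ker_compl (C r) (hC r) x).2 hr, Ideal.mul_bot]; exact bot_le
  · refine le_trans ?_ (Finset.le_sup (b := k x) (hk.range_finite.mem_toFinset.2 ⟨x, rfl⟩))
    rw [stalkIdeal_mul, hF, (stalkIdeal_ker_compl (C (k x)) (hC (k x)) x).1 rfl, Ideal.mul_top]

/-- A blow-up with Cartier boundary on which the torsion-free quotients are locally free. -/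
theorem exists_blowUp_quotients' [IsNoetherian X] {ι : Type v} [Finite ι] (U : X.Opens)
    (F : ι → X.Modules) (hF : ∀ i, Coh.IsCoh (F i)) (k : ι → X → ℕ)
    (hk : ∀ i, IsLocallyConstant (k i))
    (hU : ∀ i, ∀ x ∈ U, Fitt.ideal (X.presheaf.stalk x) ((F i).presheaf.stalk x) (k i x) = ⊤ ∧
      ∀ j < k i x, Fitt.ideal (X.presheaf.stalk x) ((F i).presheaf.stalk x) j = ⊥) :
    ∃ (X' : Scheme.{u}) (b : X' ⟶ X) (E : X'.IdealSheafData),
      (∃ I : X.IdealSheafData, BlowUp.IsBlowUp b I ∧ ∀ V, (I.ideal V).FG) ∧ IsProper b ∧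
      BlowUp.IsEffCartierIdeal E ∧ (E.support : Set X') = (b ⁻¹' (U : Set X))ᶜ ∧ IsIso (b ∣_ U) ∧
      IsLocallyNoetherian X' ∧
      ∀ i, ∃ (G : X'.Modules) (π : (Scheme.Modules.pullback b).obj (F i) ⟶ G), Epi π ∧
        G.IsQuasicoherent ∧ FlatMod.IsFinLocFree G ∧ TorsionKer E π := by
  classical
  cases nonempty_fintype ι
  haveI := fun i => (hF i).1
  haveI := fun i => (hF i).2
  choose J hJ using fun i => exists_rankIdeal (F i) (k i) (hk i)
  let B : X.IdealSheafData := Scheme.IdealSheafData.vanishingIdeal U.compl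
  let P : X.IdealSheafData := ∏ i, J i
  have hsupp : ((B * P).support : Set X) = (U : Set X)ᶜ := by
    refine Set.Subset.antisymm (fun x hx => ?_) ?_
    · intro hxU
      refine (notMem_support_iff (B * P) x).2 ?_ hx
      rw [stalkIdeal_mul, (notMem_support_iff B x).1 (fun h => ?_)]
      · rw [Ideal.top_mul]
        have : ∀ s : Finset ι, stalkIdeal (∏ i ∈ s, J i) x = ⊤ := by
          intro s
          induction s using Finset.induction with
          | empty =>
            rw [Finset.prod_empty, Scheme.IdealSheafData.one_eq_top, ← notMem_support_iff,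
              Scheme.IdealSheafData.support_top]
            exact id
          | insert a s has ih => rw [Finset.prod_insert has, stalkIdeal_mul, ih, hJ, (hU a x hxU).1,
              Ideal.mul_top]
        exact this Finset.univ
      · have h' : x ∈ (Scheme.IdealSheafData.vanishingIdeal U.compl).support := h
        rw [← SetLike.mem_coe, Scheme.IdealSheafData.coe_support_vanishingIdeal] at h'
        exact h' hxU
    · intro x hx
      rw [Scheme.IdealSheafData.support_mul]
      refine Or.inl ?_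
      show x ∈ (Scheme.IdealSheafData.vanishingIdeal U.compl).support
      rw [← SetLike.mem_coe, Scheme.IdealSheafData.coe_support_vanishingIdeal]
      exact hx
  obtain ⟨X', b, hb⟩ := BlowUpExists.exists_isBlowUp X (B * P)
  have hfg : ∀ V, ((B * P).ideal V).FG := fun V =>
    (isNoetherianRing_iff_ideal_fg _).1 (IsLocallyNoetherian.component_noetherian V) _
  haveI : IsProper b := BlowUpExists.isProper_of_isBlowUp hb hfg
  haveI : IsLocallyNoetherian X' := LocallyOfFiniteType.isLocallyNoetherian b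
  have hE : BlowUp.IsEffCartierIdeal ((B * P).comap b) := hb.1
  have hEs : (((B * P).comap b).support : Set X') = (b ⁻¹' (U : Set X))ᶜ := by
    rw [Scheme.IdealSheafData.support_comap]
    show b ⁻¹' ((B * P).support : Set X) = _
    rw [hsupp]; rfl
  have hiso : IsIso (b ∣_ U) := by
    have h := Lib.Ideal.BlowUp.isIso_off_center hb
    have hU' : (B * P).support.compl = U := by
      ext x
      show x ∈ ((B * P).support : Set X)ᶜ ↔ x ∈ (U : Set X)
      rw [hsupp, compl_compl]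
    rwa [hU'] at h
  refine ⟨X', b, (B * P).comap b, ⟨B * P, hb, hfg⟩, inferInstance, hE, hEs, hiso, inferInstance, fun i => ?_⟩
  haveI := QCoh.Pullback.isQCoh_pullback b (F i)
  haveI := Modules.SupportOps.isFT_pullback b (F i)
  obtain ⟨G, π, hπ, hGq, -, hker⟩ := exists_quotient ((B * P).comap b) ((Scheme.Modules.pullback b).obj (F i))
  refine ⟨G, π, hπ, hGq, ?_, hker⟩
  let R : X.IdealSheafData := B * ∏ j ∈ Finset.univ.erase i, J j
  have hBP : B * P = J i * R := by
    show B * ∏ j, J j = J i * (B * ∏ j ∈ Finset.univ.erase i, J j)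
    rw [← Finset.mul_prod_erase Finset.univ J (Finset.mem_univ i), mul_left_comm]
  have hJi : BlowUp.IsEffCartierIdeal ((J i).comap b) := by
    refine Ideal.EffCartier.isEffCartier_factor_left (J := R.comap b) ?_
    rwa [← Ideal.Comap.comap_mul, ← hBP]
  refine isFinLocFree_of_principal π (fun y => k i (b y)) ((hk i).comp_continuous b.continuous) fun y => ?_
  obtain ⟨W, hyW, -, t, ht, htW⟩ := Ideal.EffCartier.exists_gen hJi y (W := ⊤) trivial
  obtain ⟨W', hyW', -, τ, hτ, hτW⟩ := Ideal.EffCartier.exists_gen hE y (W := ⊤) trivial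
  have hst : stalkIdeal ((J i).comap b) y = Ideal.span {X'.presheaf.germ W.1 y hyW t} := by
    rw [stalkIdeal_eq _ W hyW, htW, Ideal.map_span, Set.image_singleton]
  have hsτ : stalkIdeal ((B * P).comap b) y = Ideal.span {X'.presheaf.germ W'.1 y hyW' τ} := by
    rw [stalkIdeal_eq _ W' hyW', hτW, Ideal.map_span, Set.image_singleton]
  refine ⟨_, _, Ideal.EffCartier.germ_mem_nonZeroDivisors W.2 ht y hyW,
    Ideal.EffCartier.germ_mem_nonZeroDivisors W'.2 hτ y hyW', ?_, ?_, ?_,
    hker y W' hyW' τ hτW⟩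
  · rw [← Ideal.span_singleton_le_span_singleton, ← hst, ← hsτ, hBP, Ideal.Comap.comap_mul,
      stalkIdeal_mul]
    exact Ideal.mul_le_left
  · rw [FittSheaf.fitt_pullback_stalk, ← hJ, ← stalkIdeal_comap, hst]
  · intro j hj
    let C : X'.Opens := ⟨(fun z => k i (b z)) ⁻¹' {k i (b y)},
      ((hk i).comp_continuous b.continuous).isOpen_fiber _⟩
    obtain ⟨V, hV, hyV, hVC⟩ := exists_isAffineOpen_mem_and_subset (show y ∈ C from rfl)
    rw [← FittSheaf.map_sheafIdeal _ ⟨V, hV⟩ hyV, eq_bot_iff, Ideal.map_le_iff_le_comap]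
    intro a ha
    rw [Ideal.mem_comap, Ideal.mem_bot]
    have h0 : a = 0 := Ideal.EffCartier.eq_zero_of_germ_eq_zero_off hE a fun z hz hzs => by
      have h := Ideal.mem_map_of_mem (X'.presheaf.germ V z hz).hom ha
      have hzU : b z ∈ U := by
        by_contra hne
        exact hzs (hEs.ge hne)
      rw [FittSheaf.map_sheafIdeal _ ⟨V, hV⟩ hz, FittSheaf.fitt_pullback_stalk,
        (hU i _ hzU).2 j (lt_of_lt_of_eq hj (hVC hz).symm), Ideal.map_bot, Ideal.mem_bot] at h
      exact h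
    rw [h0, map_zero]

/-- `exists_blowUp_quotients'` without the centre. -/
theorem exists_blowUp_quotients [IsNoetherian X] {ι : Type v} [Finite ι] (U : X.Opens)
    (F : ι → X.Modules) (hF : ∀ i, Coh.IsCoh (F i)) (k : ι → X → ℕ)
    (hk : ∀ i, IsLocallyConstant (k i))
    (hU : ∀ i, ∀ x ∈ U, Fitt.ideal (X.presheaf.stalk x) ((F i).presheaf.stalk x) (k i x) = ⊤ ∧
      ∀ j < k i x, Fitt.ideal (X.presheaf.stalk x) ((F i).presheaf.stalk x) j = ⊥) :
    ∃ (X' : Scheme.{u}) (b : X' ⟶ X) (E : X'.IdealSheafData), IsProper b ∧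
      BlowUp.IsEffCartierIdeal E ∧ (E.support : Set X') = (b ⁻¹' (U : Set X))ᶜ ∧ IsIso (b ∣_ U) ∧
      IsLocallyNoetherian X' ∧
      ∀ i, ∃ (G : X'.Modules) (π : (Scheme.Modules.pullback b).obj (F i) ⟶ G), Epi π ∧
        G.IsQuasicoherent ∧ FlatMod.IsFinLocFree G ∧ TorsionKer E π := by
  obtain ⟨X', b, E, -, h⟩ := exists_blowUp_quotients' U F hF k hk hU
  exact ⟨X', b, E, h⟩

end Groth.Agent.H22.ExtendFree
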