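import Groth.Agent.H22.StrictTransform.Module
import Groth.Agent.H22.StrictTransform.Rank
import Groth.Agent.Lib.QCoh.Pushforward
import Groth.Agent.Lib.Modules.SupportOps

/-!
# Locally free torsion-free quotients
-/

set_option autoImplicit false
set_option maxHeartbeats 1000000

noncomputable section

universe u

open CategoryTheory CategoryTheory.Limits AlgebraicGeometry TopologicalSpace Opposite

namespace Groth.Agent.H22.ExtendFree

open Groth.Agent Groth.Agent.Lib Groth.Agent.Lib.QCoh.Localizing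
open Groth.Agent.H22.StrictTransform

variable {X : Scheme.{u}}

/-- The stalk form of the strict transform condition. -/
def TorsionKer (E : X.IdealSheafData) {P G : X.Modules} (π : P ⟶ G) : Prop :=
  ∀ (x : X) (W : X.affineOpens) (hxW : x ∈ W.1) (t : Γ(X, W.1)),
    E.ideal W = Ideal.span {t} → ∀ v : P.presheaf.stalk x,
      (Modules.StalkModule.stalkMapₗ π x v = 0 ↔ ∃ n : ℕ, X.presheaf.germ W.1 x hxW t ^ n • v = 0)

/-- The quotient by the sections supported on a Cartier divisor. -/
theorem exists_quotient [IsLocallyNoetherian X] (E : X.IdealSheafData) (P : X.Modules) [P.IsQuasicoherent]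
    [SheafOfModules.IsFiniteType (R := X.ringCatSheaf) P] :
    ∃ (G : X.Modules) (π : P ⟶ G), Epi π ∧ G.IsQuasicoherent ∧
      SheafOfModules.IsFiniteType (R := X.ringCatSheaf) G ∧ TorsionKer E π := by
  let O : X.Opens := E.support.compl
  let η := (Scheme.Modules.restrictAdjunction O.ι).unit.app P
  haveI : ((Scheme.Modules.restrictFunctor O.ι).obj P).IsQuasicoherent :=
    haveI := QCoh.Pullback.isQCoh_pullback O.ι P
    CohBasics.Closure.isQCoh_of_iso ((Scheme.Modules.restrictFunctorIsoPullback O.ι).app P).symm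
  haveI : ((Scheme.Modules.restrictFunctor O.ι ⋙ Scheme.Modules.pushforward O.ι).obj P).IsQuasicoherent :=
    QCoh.Pushforward.isQCoh_pushforward (f := O.ι)
  haveI : ((𝟭 X.Modules).obj P).IsQuasicoherent := ‹P.IsQuasicoherent›
  let π : P ⟶ Abelian.image η := Abelian.factorThruImage η
  haveI : Epi π := inferInstanceAs (Epi (Abelian.factorThruImage η))
  haveI : (Abelian.image η).IsQuasicoherent := by
    haveI := QCoh.Closure.isQCoh_cokernel η
    exact QCoh.Closure.isQCoh_kernel (cokernel.π η)
  refine ⟨_, π, inferInstance, inferInstance, isFT_of_epi π, fun x W hxW t htW v => ?_⟩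
  have hinj := (Modules.StalkModule.mono_iff_stalkMapₗ_injective (Abelian.image.ι η)).1 inferInstance x
  have heq : Modules.StalkModule.stalkMapₗ π x v = 0 ↔ Modules.StalkModule.stalkMapₗ η x v = 0 := by
    have h : Modules.StalkModule.stalkMapₗ (Abelian.image.ι η) x (Modules.StalkModule.stalkMapₗ π x v) =
        Modules.StalkModule.stalkMapₗ η x v := by
      rw [← LinearMap.comp_apply, ← Modules.StalkModule.stalkMapₗ_comp]
      congr 2
      exact Abelian.image.fac η
    exact ⟨fun h0 => by rw [← h, h0, map_zero], fun h0 => hinj (by rw [h, h0, map_zero])⟩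
  rw [heq]
  obtain ⟨U, hxU, m, rfl⟩ := TopCat.Presheaf.exists_germ_eq P.presheaf v
  have hD : W.1 ⊓ O = X.basicOpen t := by
    ext y
    constructor
    · rintro ⟨hyW, hyO⟩
      have hy : y ∉ E.support := hyO
      rw [Scheme.IdealSheafData.mem_support_iff_of_mem hyW, Scheme.mem_zeroLocus_iff] at hy
      push Not at hy
      obtain ⟨a, ha, hya⟩ := hy
      obtain ⟨c, rfl⟩ := Ideal.mem_span_singleton'.1 (htW.le ha)
      rw [Scheme.basicOpen_mul] at hya
      exact hya.2
    · intro hy
      refine ⟨X.basicOpen_le t hy, fun hys => ?_⟩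
      rw [SetLike.mem_coe, Scheme.IdealSheafData.mem_support_iff_of_mem (X.basicOpen_le t hy),
        Scheme.mem_zeroLocus_iff] at hys
      exact hys t (htW.ge (Ideal.mem_span_singleton_self t)) hy
  erw [Modules.StalkModule.stalkMapₗ_germ]
  constructor
  · intro h0
    rw [← map_zero ((((Scheme.Modules.restrictFunctor O.ι ⋙ Scheme.Modules.pushforward O.ι).obj P)).presheaf.germ
      U x hxU).hom] at h0
    obtain ⟨U', hxU', i, j, hij⟩ := TopCat.Presheaf.germ_eq
      (F := ((Scheme.Modules.restrictFunctor O.ι ⋙ Scheme.Modules.pushforward O.ι).obj P).presheaf)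
      x hxU hxU _ _ h0
    rw [map_zero] at hij
    have h1 : η.app U' (res P i.le m) = 0 := (res_app η i.le m).symm.trans hij
    have hη : η.app U' (res P i.le m) = res P (O.ι.image_preimage_le U') (res P i.le m) := rfl
    have hij' : res P (show O.ι ''ᵁ (O.ι ⁻¹ᵁ U') ≤ U from (O.ι.image_preimage_le U').trans i.le) m = 0 :=
      (res_res (M := P) i.le (O.ι.image_preimage_le U') m).symm.trans (hη.symm.trans h1)
    obtain ⟨c, hc, hxc⟩ := W.2.exists_basicOpen_le (V := U') ⟨x, hxU'⟩ hxW
    have hVU : X.basicOpen c ≤ U := hc.trans i.le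
    let t' := resR (X.basicOpen_le c) t
    have hle : X.basicOpen t' ≤ O.ι ''ᵁ (O.ι ⁻¹ᵁ U') := by
      intro y hy
      have hy' : y ∈ X.basicOpen c ⊓ X.basicOpen t :=
        (Scheme.basicOpen_res X t (homOfLE (X.basicOpen_le c)).op).le hy
      rw [Scheme.Hom.image_preimage_eq_opensRange_inf]
      refine ⟨?_, hc hy'.1⟩
      rw [Scheme.Opens.opensRange_ι]
      exact (hD.ge hy'.2).2
    obtain ⟨n, hn⟩ := (localizes_of_isAffineOpen P (W.2.basicOpen c) t').sep (res P hVU m) (by
      rw [res_res]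
      have := congrArg (res P hle) hij'
      rw [res_res, map_zero] at this
      exact this)
    refine ⟨n, ?_⟩
    have h2 := congrArg (P.presheaf.germ (X.basicOpen c) x hxc) hn
    rw [Modules.StalkModule.germ_smul, map_pow, map_zero] at h2
    erw [TopCat.Presheaf.germ_res_apply, TopCat.Presheaf.germ_res_apply] at h2
    exact h2
  · rintro ⟨n, hn⟩
    let N : X.Opens := U ⊓ W.1
    let z : Γ(P, N) := resR (inf_le_right : U ⊓ W.1 ≤ W.1) (t ^ n) •
      res P (inf_le_left : U ⊓ W.1 ≤ U) m
    have hz : P.presheaf.germ N x ⟨hxU, hxW⟩ z = P.presheaf.germ N x ⟨hxU, hxW⟩ 0 := by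
      simp only [z]
      rw [map_zero, Modules.StalkModule.germ_smul]
      erw [TopCat.Presheaf.germ_res_apply, TopCat.Presheaf.germ_res_apply]
      rw [map_pow]
      exact hn
    obtain ⟨V, hxV, i, j, hij⟩ :=
      P.presheaf.germ_eq x (U := N) (V := N) ⟨hxU, hxW⟩ ⟨hxU, hxW⟩ _ _ hz
    rw [map_zero] at hij
    have hVU : V ≤ U := i.le.trans inf_le_left
    have hVW : V ≤ W.1 := i.le.trans inf_le_right
    have h0 : η.app V (res P hVU m) = 0 := by
      show res P (O.ι.image_preimage_le V) (res P hVU m) = 0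
      rw [res_res]
      set Q := O.ι ''ᵁ (O.ι ⁻¹ᵁ V)
      have hQV : Q ≤ V := O.ι.image_preimage_le V
      have hQt : Q ≤ X.basicOpen t := by
        intro y hy
        rw [show Q = O.ι.opensRange ⊓ V from Scheme.Hom.image_preimage_eq_opensRange_inf _ _,
          Scheme.Opens.opensRange_ι] at hy
        exact hD.le ⟨hVW hy.2, hy.1⟩
      have hu : IsUnit (resR (hQV.trans hVW) (t ^ n)) := by
        rw [map_pow]
        refine IsUnit.pow n ?_
        have := (RingedSpace.isUnit_res_basicOpen X.toRingedSpace t).map (resR hQt)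
        rw [← resR_resR (X.basicOpen_le t) hQt]
        exact this
      refine hu.smul_eq_zero.1 ?_
      have h := congrArg (res P hQV) hij
      rw [map_zero] at h
      refine Eq.trans ?_ h
      show _ = res P hQV (res P i.le z)
      simp only [z, res_smul, res_res, resR_resR]
    refine Eq.trans (TopCat.Presheaf.germ_res_apply
      ((Scheme.Modules.restrictFunctor O.ι ⋙ Scheme.Modules.pushforward O.ι).obj P).presheaf
      (homOfLE hVU) x hxV _).symm ?_
    exact (congrArg _ ((res_app η hVU m).trans h0)).trans (map_zero _)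

/-- Local freeness of a torsion-free quotient whose Fitting ideal is invertible. -/
theorem isFinLocFree_of_principal {P G : X.Modules} [P.IsQuasicoherent]
    [SheafOfModules.IsFiniteType (R := X.ringCatSheaf) P] (π : P ⟶ G) [Epi π] (k : X → ℕ)
    (hk : IsLocallyConstant k)
    (h : ∀ x : X, ∃ t τ : X.presheaf.stalk x, t ∈ nonZeroDivisors (X.presheaf.stalk x) ∧
      τ ∈ nonZeroDivisors (X.presheaf.stalk x) ∧ t ∣ τ ∧
      Fitt.ideal (X.presheaf.stalk x) (P.presheaf.stalk x) (k x) = Ideal.span {t} ∧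
      (∀ j < k x, Fitt.ideal (X.presheaf.stalk x) (P.presheaf.stalk x) j = ⊥) ∧
      ∀ v, Modules.StalkModule.stalkMapₗ π x v = 0 ↔ ∃ n : ℕ, τ ^ n • v = 0) :
    FlatMod.IsFinLocFree G := by
  have hfin : ∀ y : X, Module.Finite (X.presheaf.stalk y) (P.presheaf.stalk y) := fun y => by
    obtain ⟨U, hU, hy, -⟩ := exists_isAffineOpen_mem_and_subset (show y ∈ (⊤ : X.Opens) from trivial)
    haveI : Module.Finite Γ(X, U) Γ(P, U) := CohBasics.Affine.finite_sections hU
    exact FittSheaf.finite_stalk _ hU hy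
  have hbasis : ∀ y : X, ∃ B : Fin (k y) → G.presheaf.stalk y,
      LinearIndependent (X.presheaf.stalk y) B ∧
      Submodule.span (X.presheaf.stalk y) (Set.range B) = ⊤ := by
    intro y
    haveI := hfin y
    obtain ⟨t, τ, ht, hτ, hdvd, hfit, hlt, hker⟩ := h y
    obtain ⟨g, hg, hind⟩ := exists_basis_sup_ker (M := P.presheaf.stalk y)
      (⟨ht, hfit, fun j hj => hlt j (by omega)⟩ : H25.Fitting.Principal (P.presheaf.stalk y) (k y) t)
    refine ⟨fun i => Modules.StalkModule.stalkMapₗ π y (g i), ?_, ?_⟩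
    · refine Fintype.linearIndependent_iff.2 fun a ha i => ?_
      have h0 : Modules.StalkModule.stalkMapₗ π y (∑ i, a i • g i) = 0 := by
        rw [map_sum]; simpa only [map_smul] using ha
      obtain ⟨n, hn⟩ := (hker _).1 h0
      have h1 := congrFun (hind (fun i => τ ^ n * a i) (by
        simp only [mul_smul, ← Finset.smul_sum, hn, smul_zero])) i
      exact (mul_left_mem_nonZeroDivisors_eq_zero_iff (pow_mem hτ n)).1 h1
    · refine eq_top_iff.2 fun w _ => ?_
      obtain ⟨v, rfl⟩ := (Modules.StalkModule.epi_iff_stalkMapₗ_surjective π).1 ‹Epi π› y w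
      obtain ⟨u, hu, z, hz, rfl⟩ := Submodule.mem_sup.1 (hg.ge (Submodule.mem_top : v ∈ ⊤))
      obtain ⟨c, rfl⟩ := hdvd
      have hz' : Modules.StalkModule.stalkMapₗ π y z = 0 :=
        (hker z).2 ⟨1, by rw [pow_one, mul_comm, mul_smul, show t • z = 0 from hz, smul_zero]⟩
      rw [map_add, hz', add_zero, Set.range_comp' (Modules.StalkModule.stalkMapₗ π y) g,
        Submodule.span_image]
      exact Submodule.mem_map_of_mem hu
  intro x
  obtain ⟨B, -, hB⟩ := hbasis x
  obtain ⟨U, hxU, s, hs⟩ := exists_spanning_sections π B hB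
  let C : X.Opens := ⟨k ⁻¹' {k x}, hk.isOpen_fiber _⟩
  let s' : Fin (k x) → Γ(G, U ⊓ C) := fun i => res G (inf_le_left : U ⊓ C ≤ U) (s i)
  have hs' : ∀ (y : X) (hy : y ∈ U ⊓ C), Submodule.span (X.presheaf.stalk y)
      (Set.range fun i => G.presheaf.germ (U ⊓ C) y hy (s' i)) = ⊤ := fun y hy => by
    convert hs y hy.1 using 4 with i
    exact TopCat.Presheaf.germ_res_apply _ _ _ _ _
  obtain ⟨q, -, hq⟩ := exists_free_of_spanning s' hs'
  haveI : IsIso q := by
    refine hq fun y hy => ?_
    obtain ⟨B, hli, hsp⟩ := hbasis y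
    exact linearIndependent_of_top_le_span_of_card_eq_finrank (hs' y hy).ge
      (by rw [Module.finrank_eq_card_basis (Module.Basis.mk hli hsp.ge), Fintype.card_fin,
            Fintype.card_fin, show k y = k x from hy.2])
  exact ⟨U ⊓ C, k x, ⟨hxU, rfl⟩, ⟨(asIso q).symm⟩⟩

/-- Off the divisor the quotient map is injective on stalks. -/
theorem injective_of_notMem {E : X.IdealSheafData} (hE : BlowUp.IsEffCartierIdeal E) {P G : X.Modules}
    {π : P ⟶ G} (hπ : TorsionKer E π) {x : X} (hx : x ∉ E.support) :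
    Function.Injective (Modules.StalkModule.stalkMapₗ π x) := by
  obtain ⟨W, hxW, -, t, -, htW⟩ := Ideal.EffCartier.exists_gen hE x (W := ⊤) trivial
  rw [Scheme.IdealSheafData.mem_support_iff_of_mem hxW, Scheme.mem_zeroLocus_iff] at hx
  push Not at hx
  obtain ⟨a, ha, hxa⟩ := hx
  obtain ⟨c, rfl⟩ := Ideal.mem_span_singleton'.1 (htW.le ha)
  rw [X.mem_basicOpen _ x hxW, map_mul] at hxa
  have hu := isUnit_of_mul_isUnit_right hxa
  rw [← LinearMap.ker_eq_bot, eq_bot_iff]
  intro v hv
  obtain ⟨n, hn⟩ := (hπ x W hxW t htW v).1 hv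
  exact (hu.pow n).smul_eq_zero.1 hn

end Groth.Agent.H22.ExtendFree
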