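import Groth.Agent.H22.ExtendFree.Main
import Groth.Agent.Lib.DerivedOX.PullbackStalk
import Mathlib.LinearAlgebra.Dimension.Constructions

/-!
# Gluing locally free modules after a modification
-/

set_option autoImplicit false
set_option maxHeartbeats 1000000

noncomputable section

universe u

open CategoryTheory CategoryTheory.Limits AlgebraicGeometry TopologicalSpace Opposite

namespace Groth.Agent.H22.ExtendFree

open Groth.Agent Groth.Agent.Lib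

/-- The rank of the stalks. -/
def stalkRank {X : Scheme.{u}} (M : X.Modules) (x : X) : ℕ :=
  Module.finrank (X.presheaf.stalk x) (M.presheaf.stalk x)

theorem isLocallyConstant_stalkRank {X : Scheme.{u}} {M : X.Modules} (hM : FlatMod.IsFinLocFree M) :
    IsLocallyConstant (stalkRank M) := by
  rw [IsLocallyConstant.iff_eventually_eq]
  intro x
  obtain ⟨V, n, hxV, ⟨e⟩⟩ := hM x
  have hn : ∀ y ∈ V, stalkRank M y = n := fun y hy =>
    (StrictTransform.stalk_of_free' V.ι e ⟨y, hy⟩).2.1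
  filter_upwards [V.2.mem_nhds hxV] with y hy using (hn y hy).trans (hn x hxV).symm

theorem stalkRank_pullback {X Y : Scheme.{u}} (f : X ⟶ Y) {M : Y.Modules}
    (hM : FlatMod.IsFinLocFree M) (x : X) :
    stalkRank ((Scheme.Modules.pullback f).obj M) x = stalkRank M (f x) := by
  letI : Algebra (Y.presheaf.stalk (f x)) (X.presheaf.stalk x) := (f.stalkMap x).hom.toAlgebra
  let e : TensorProduct (Y.presheaf.stalk (f x)) (X.presheaf.stalk x) (M.presheaf.stalk (f x))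
      ≃ₗ[X.presheaf.stalk x] ((Scheme.Modules.pullback f).obj M).presheaf.stalk x :=
    ((DerivedOX.PullbackStalk.pullbackStalkIso f x).app M).toLinearEquiv
  obtain ⟨V, n, hxV, ⟨a⟩⟩ := hM (f x)
  obtain ⟨h1, h2, h3⟩ := StrictTransform.stalk_of_free' V.ι a ⟨f x, hxV⟩
  change Module.Free (Y.presheaf.stalk (f x)) (M.presheaf.stalk (f x)) at h1
  unfold stalkRank
  rw [← e.finrank_eq]
  exact Module.finrank_baseChange

/-- Two locally free modules agreeing on a dense open extend together after a modification. -/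
theorem exists_modification_extending {X : Scheme.{u}} [IsNoetherian X]
    (U X₁ X₂ : X.Opens) (hU₁ : U ≤ X₁) (hU₂ : U ≤ X₂) (hX : X₁ ⊔ X₂ = ⊤)
    (hdense : Dense (U : Set X))
    (E₁ : (↑X₁ : Scheme.{u}).Modules) (E₂ : (↑X₂ : Scheme.{u}).Modules)
    (hE₁ : FlatMod.IsFinLocFree E₁) (hE₂ : FlatMod.IsFinLocFree E₂)
    (φ : (Scheme.Modules.pullback (X.homOfLE hU₁)).obj E₁ ≅
      (Scheme.Modules.pullback (X.homOfLE hU₂)).obj E₂) :
    ∃ (X' : Scheme.{u}) (π : X' ⟶ X) (E' : X'.Modules), IsProper π ∧ IsIso (π ∣_ U) ∧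
      IsSchemeTheoreticallyDominant (π ⁻¹ᵁ U).ι ∧ FlatMod.IsFinLocFree E' ∧
      Nonempty ((Scheme.Modules.pullback (π ⁻¹ᵁ U).ι).obj E' ≅
        (Scheme.Modules.pullback (π ∣_ U ≫ X.homOfLE hU₁)).obj E₁) := by
  classical
  have hcov : ∀ x : X, x ∉ X₁ → x ∈ X₂ := fun x hx =>
    ((hX.ge (trivial : x ∈ (⊤ : X.Opens))) : x ∈ X₁ ∨ x ∈ X₂).resolve_left hx
  have hagree : ∀ u : (U : Scheme.{u}),
      stalkRank E₁ (X.homOfLE hU₁ u) = stalkRank E₂ (X.homOfLE hU₂ u) := fun u => by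
    rw [← stalkRank_pullback _ hE₁, ← stalkRank_pullback _ hE₂]
    exact (Modules.StalkModule.stalkLinearEquiv φ u).finrank_eq
  have hboth : ∀ (x : X) (h₁ : x ∈ X₁) (h₂ : x ∈ X₂),
      stalkRank E₁ ⟨x, h₁⟩ = stalkRank E₂ ⟨x, h₂⟩ := by
    intro x h₁ h₂
    let W : Set X := Subtype.val '' ((stalkRank E₁) ⁻¹' {stalkRank E₁ ⟨x, h₁⟩}) ∩
      Subtype.val '' ((stalkRank E₂) ⁻¹' {stalkRank E₂ ⟨x, h₂⟩})
    have hW : IsOpen W := (X₁.2.isOpenMap_subtype_val _ ((isLocallyConstant_stalkRank hE₁).isOpen_fiber _)).inter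
      (X₂.2.isOpenMap_subtype_val _ ((isLocallyConstant_stalkRank hE₂).isOpen_fiber _))
    obtain ⟨u, ⟨⟨u₁, hu₁, rfl⟩, ⟨u₂, hu₂, hu⟩⟩, huU⟩ :=
      hdense.inter_open_nonempty W hW ⟨x, ⟨⟨_, h₁⟩, rfl, rfl⟩, ⟨⟨_, h₂⟩, rfl, rfl⟩⟩
    have h := hagree ⟨u₁.1, huU⟩
    rw [show X.homOfLE hU₁ ⟨u₁.1, huU⟩ = u₁ from Subtype.ext (congrArg (fun m => m ⟨u₁.1, huU⟩)
        (congrArg (fun m : (U : Scheme.{u}) ⟶ X => ⇑m) (X.homOfLE_ι hU₁))),
      show X.homOfLE hU₂ ⟨u₁.1, huU⟩ = u₂ from Subtype.ext ((congrArg (fun m => m ⟨u₁.1, huU⟩)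
        (congrArg (fun m : (U : Scheme.{u}) ⟶ X => ⇑m) (X.homOfLE_ι hU₂))).trans hu.symm)] at h
    exact hu₁.symm.trans (h.trans hu₂)
  let k : X → ℕ := fun x =>
    if h : x ∈ X₁ then stalkRank E₁ ⟨x, h⟩ else stalkRank E₂ ⟨x, hcov x h⟩
  have hk1 : ∀ (x : X) (h : x ∈ X₁), k x = stalkRank E₁ ⟨x, h⟩ := fun x h => dif_pos h
  have hk2 : ∀ (x : X) (h : x ∈ X₂), k x = stalkRank E₂ ⟨x, h⟩ := fun x h => by
    by_cases h1 : x ∈ X₁
    · exact (hk1 x h1).trans (hboth x h1 h)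
    · exact dif_neg h1
  have hk : IsLocallyConstant k := by
    rw [IsLocallyConstant.iff_eventually_eq]
    intro x
    by_cases hx : x ∈ X₁
    · have := X₁.2.isOpenMap_subtype_val _
        ((isLocallyConstant_stalkRank hE₁).isOpen_fiber (stalkRank E₁ ⟨x, hx⟩))
      filter_upwards [this.mem_nhds ⟨⟨x, hx⟩, rfl, rfl⟩]
      rintro _ ⟨y, hy, rfl⟩
      exact (hk1 _ y.2).trans (Eq.trans hy (hk1 x hx).symm)
    · have := X₂.2.isOpenMap_subtype_val _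
        ((isLocallyConstant_stalkRank hE₂).isOpen_fiber (stalkRank E₂ ⟨x, hcov x hx⟩))
      filter_upwards [this.mem_nhds ⟨⟨x, hcov x hx⟩, rfl, rfl⟩]
      rintro _ ⟨y, hy, rfl⟩
      exact (hk2 _ y.2).trans (Eq.trans hy (hk2 x (hcov x hx)).symm)
  let E₀ := (Scheme.Modules.pullback (X.homOfLE hU₁)).obj E₁
  have hE₀ : FlatMod.IsFinLocFree E₀ := TensorMod.LocFree.isFinLocFree_pullback _ hE₁
  obtain ⟨F, hF, ⟨a⟩⟩ := H78.Formal.Extend.exists_extension U (isCoh_of_isFinLocFree hE₀)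
  have hfree : ∀ _i : PUnit.{1}, ∀ x ∈ U, Fitt.ideal (X.presheaf.stalk x) (F.presheaf.stalk x) (k x) = ⊤ ∧
      ∀ j < k x, Fitt.ideal (X.presheaf.stalk x) (F.presheaf.stalk x) j = ⊥ := by
    intro _ x hx
    obtain ⟨V, n, hxV, ⟨c⟩⟩ := hE₀ ⟨x, hx⟩
    obtain ⟨h1, h2, h3⟩ := StrictTransform.stalk_of_free' (F := F) (V.ι ≫ U.ι)
      ((Scheme.Modules.restrictFunctorComp V.ι U.ι).app F ≪≫
        (Scheme.Modules.restrictFunctor V.ι).mapIso a ≪≫ c) ⟨⟨x, hx⟩, hxV⟩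
    have hn : stalkRank E₀ ⟨x, hx⟩ = n := (StrictTransform.stalk_of_free' V.ι c ⟨⟨x, hx⟩, hxV⟩).2.1
    change Module.Free (X.presheaf.stalk x) (F.presheaf.stalk x) at h1
    change Module.Finite (X.presheaf.stalk x) (F.presheaf.stalk x) at h3
    change Module.finrank (X.presheaf.stalk x) (F.presheaf.stalk x) = n at h2
    have hkx : k x = n := by
      rw [hk1 x (hU₁ hx)]
      rw [← hn, stalkRank_pullback _ hE₁]
      congr 1
      exact Subtype.ext (congrArg (fun m => m ⟨x, hx⟩)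
        (congrArg (fun m : (U : Scheme.{u}) ⟶ X => ⇑m) (X.homOfLE_ι hU₁))).symm
    rw [hkx]
    exact ⟨H25.Fitting.ideal_eq_top _ (Module.finBasis _ _).span_eq h2.le,
      fun j hj => H25.Fitting.ideal_eq_bot_of_free (h2.symm ▸ hj)⟩
  obtain ⟨X', b, D, hb, hD, hDs, hiso, hnoeth, hG⟩ :=
    exists_blowUp_quotients U (fun _ : PUnit.{1} => F) (fun _ => hF) (fun _ => k) (fun _ => hk) hfree
  obtain ⟨G, π, hπ, -, hGf, hker⟩ := hG PUnit.unit
  haveI := hnoeth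
  haveI := hπ
  haveI : IsIso ((Scheme.Modules.restrictFunctor (b ⁻¹ᵁ U).ι).map π) :=
    isIso_restrict_map (b ⁻¹ᵁ U).ι π fun x => injective_of_notMem hD hker fun h => hDs.le h x.2
  refine ⟨X', b, G, hb, hiso, ⟨le_bot_iff.1 fun W c hc => ?_⟩, hGf, ⟨?_⟩⟩
  · rw [Scheme.Hom.ker_apply, RingHom.mem_ker] at hc
    rw [Scheme.IdealSheafData.ideal_bot]
    refine Ideal.EffCartier.eq_zero_of_germ_eq_zero_off hD c fun z hz hzs => ?_
    have hzU : z ∈ b ⁻¹ᵁ U := by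
      by_contra h
      exact hzs (hDs.ge h)
    apply (ConcreteCategory.bijective_of_isIso ((b ⁻¹ᵁ U).ι.stalkMap ⟨z, hzU⟩)).injective
    refine ((Scheme.Hom.germ_stalkMap_apply (b ⁻¹ᵁ U).ι W.1 ⟨z, hzU⟩ hz c).trans
      ((congrArg _ hc).trans (map_zero _))).trans ?_
    exact (map_zero _).symm
  · exact ((Scheme.Modules.restrictFunctorIsoPullback (b ⁻¹ᵁ U).ι).app G).symm ≪≫
      (asIso ((Scheme.Modules.restrictFunctor (b ⁻¹ᵁ U).ι).map π)).symm ≪≫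
      (Scheme.Modules.restrictFunctorIsoPullback (b ⁻¹ᵁ U).ι).app _ ≪≫
      (Scheme.Modules.pullbackComp (b ⁻¹ᵁ U).ι b).app F ≪≫
      (Scheme.Modules.pullbackCongr (morphismRestrict_ι b U).symm).app F ≪≫
      ((Scheme.Modules.pullbackComp (b ∣_ U) U.ι).app F).symm ≪≫
      (Scheme.Modules.pullback (b ∣_ U)).mapIso
        (((Scheme.Modules.restrictFunctorIsoPullback U.ι).app F).symm ≪≫ a) ≪≫
      (Scheme.Modules.pullbackComp (b ∣_ U) (X.homOfLE hU₁)).app E₁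

end Groth.Agent.H22.ExtendFree
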