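import Groth.Agent.H22.Nagata.Compactifiable
import Groth.Agent.Lib.QfhGalois.Basic
import Groth.Agent.H22.Nagata.Boundary

/-!
# Compactifications separating the values of a locally constant function
-/

set_option autoImplicit false
set_option maxHeartbeats 1000000

noncomputable section

universe u v

open CategoryTheory CategoryTheory.Limits AlgebraicGeometry TopologicalSpace

namespace Groth.Agent.H22.ExtendFree

open Groth.Agent.Lib

/-- A compactification to which a given locally constant function extends. -/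
theorem exists_labelled_compactification {X S : Scheme.{u}} (f : X ⟶ S) [IsNoetherian S]
    [IsSeparated f] [QuasiCompact f] [LocallyOfFiniteType f] {A : Type v} [Inhabited A] (φ : X → A)
    (hφ : IsLocallyConstant φ) :
    ∃ (Y : Scheme.{u}) (j : X ⟶ Y) (g : Y ⟶ S) (ψ : Y → A), IsOpenImmersion j ∧ QuasiCompact j ∧
      IsProper g ∧ j ≫ g = f ∧ IsLocallyConstant ψ ∧ ∀ x, ψ (j x) = φ x := by
  haveI : CompactSpace X := QuasiCompact.compactSpace_of_compactSpace f
  classical
  obtain ⟨n, ⟨e⟩⟩ := Finite.exists_equiv_fin ↥(Set.range φ)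
    (h := hφ.range_finite.to_subtype)
  let lab : X → ULift.{u} (Fin n) := fun x => ⟨e ⟨φ x, x, rfl⟩⟩
  have hlab : IsLocallyConstant lab := by
    rw [IsLocallyConstant.iff_eventually_eq]
    intro x
    filter_upwards [(hφ.isOpen_fiber (φ x)).mem_nhds rfl] with y hy
    exact congrArg (fun a => ULift.up (e a)) (Subtype.ext hy)
  let C : ULift.{u} (Fin n) → X.Opens := fun a => ⟨lab ⁻¹' {a}, hlab.isOpen_fiber a⟩
  let T : Scheme.{u} := ∐ fun _ : ULift.{u} (Fin n) => S
  let 𝒰 : X.OpenCover := X.openCoverOfIsOpenCover C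
    (eq_top_iff.2 fun x _ => Opens.mem_iSup.2 ⟨lab x, rfl⟩)
  let F : ∀ a, (C a : Scheme.{u}) ⟶ T := fun a => (C a).ι ≫ f ≫ Sigma.ι (fun _ => S) a
  have hF : ∀ a b, pullback.fst (𝒰.f a) (𝒰.f b) ≫ F a = pullback.snd (𝒰.f a) (𝒰.f b) ≫ F b := by
    intro a b
    show pullback.fst (C a).ι (C b).ι ≫ F a = pullback.snd (C a).ι (C b).ι ≫ F b
    rcases eq_or_ne a b with rfl | hne
    · simp only [F, pullback.condition_assoc]
    · haveI : IsEmpty ↥(pullback (C a).ι (C b).ι) := ⟨fun z => by
        have h1 := congrArg (fun m : pullback (C a).ι (C b).ι ⟶ X => m z)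
          (pullback.condition (f := (C a).ι) (g := (C b).ι))
        have ha : lab ((pullback.fst (C a).ι (C b).ι ≫ (C a).ι) z) = a :=
          (pullback.fst (C a).ι (C b).ι z).2
        have hb : lab ((pullback.snd (C a).ι (C b).ι ≫ (C b).ι) z) = b :=
          (pullback.snd (C a).ι (C b).ι z).2
        exact hne (ha.symm.trans ((congrArg lab h1).trans hb))⟩
      exact (isInitialOfIsEmpty (X := pullback (C a).ι (C b).ι)).hom_ext _ _
  let f' : X ⟶ T := 𝒰.glueMorphisms F hF
  have hf'C : ∀ a, (C a).ι ≫ f' = F a := fun a => 𝒰.ι_glueMorphisms F hF a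
  let q : T ⟶ S := Sigma.desc fun _ => 𝟙 S
  have hf'q : f' ≫ q = f := by
    refine Scheme.Cover.hom_ext 𝒰 _ _ fun a => ?_
    show (C a).ι ≫ f' ≫ q = (C a).ι ≫ f
    rw [reassoc_of% (hf'C a)]
    simp [F, q]
  haveI : IsFinite q := QfhGalois.isFinite_sigmaDesc _ fun _ => inferInstance
  haveI : IsLocallyNoetherian T := LocallyOfFiniteType.isLocallyNoetherian q
  haveI : CompactSpace T := QuasiCompact.compactSpace_of_compactSpace q
  haveI : IsNoetherian T := {}
  haveI : IsSeparated (f' ≫ q) := by rw [hf'q]; infer_instance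
  haveI : IsSeparated f' := IsSeparated.of_comp f' q
  haveI : LocallyOfFiniteType (f' ≫ q) := by rw [hf'q]; infer_instance
  haveI : LocallyOfFiniteType f' := locallyOfFiniteType_of_comp f' q
  haveI : QuasiCompact (f' ≫ q) := by rw [hf'q]; infer_instance
  haveI : QuasiCompact f' := QuasiCompact.of_comp f' q
  obtain ⟨Y, j, p, hj, hq, hp, hjp⟩ := Nagata.compactifiable_noetherian f'
  haveI := hp
  let L : T → ULift.{u} (Fin n) := fun z => ((sigmaMk fun _ : ULift.{u} (Fin n) => S).symm z).1
  have hL : IsLocallyConstant L := by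
    have h : IsLocallyConstant (fun z : (Σ _ : ULift.{u} (Fin n), S) => z.1) :=
      (IsLocallyConstant.iff_isOpen_fiber).2 fun a => isOpen_sigma_iff.2 fun i => by
        by_cases hia : i = a
        · convert isOpen_univ using 1; ext s; simp [hia]
        · convert isOpen_empty using 1; ext s; simp [hia]
    exact h.comp_continuous (sigmaMk fun _ : ULift.{u} (Fin n) => S).symm.continuous
  refine ⟨Y, j, p ≫ q, fun y => (e.symm (L (p y)).down).1, hj, hq, inferInstance,
    by rw [reassoc_of% hjp, hf'q], (hL.comp_continuous p.continuous).comp (fun a => (e.symm a.down).1), fun x => ?_⟩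
  have hx : L (p (j x)) = lab x := by
    rw [← Scheme.Hom.comp_apply, hjp]
    have h1 : f' x = Sigma.ι (fun _ : ULift.{u} (Fin n) => S) (lab x) (f x) := by
      have := congrArg (fun m : (C (lab x) : Scheme.{u}) ⟶ T => m ⟨x, rfl⟩) (hf'C (lab x))
      exact this
    show ((sigmaMk fun _ : ULift.{u} (Fin n) => S).symm (f' x)).1 = lab x
    rw [h1, ← sigmaMk_mk, Homeomorph.symm_apply_apply]
  show (e.symm (L (p (j x))).down).1 = φ x
  rw [hx]
  simp [lab]

end Groth.Agent.H22.ExtendFree
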