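import Groth.Agent.H22.ExtendFree.BlowUp
import Groth.Agent.H22.ExtendFree.Label
import Groth.Agent.H78.Formal.Extend
import Groth.Agent.Lib.TensorMod.FPConv
import Groth.Agent.Lib.TensorMod.LocFree

/-!
# Compactifications to which locally free modules extend
-/

set_option autoImplicit false
set_option maxHeartbeats 1000000

noncomputable section

universe u v

open CategoryTheory CategoryTheory.Limits AlgebraicGeometry TopologicalSpace Opposite

namespace Groth.Agent.H22.ExtendFree

open Groth.Agent Groth.Agent.Lib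

theorem isCoh_of_isFinLocFree {X : Scheme.{u}} {M : X.Modules} (hM : FlatMod.IsFinLocFree M) :
    Coh.IsCoh M :=
  haveI := TensorMod.FPConv.isFP_of_isFinLocFree hM
  ⟨Modules.AffineSections.isQCoh_of_isFinLocFree hM, inferInstance⟩

/-- The restriction of a quotient map that is injective on the stalks in the image is an isomorphism. -/
theorem isIso_restrict_map {X Y : Scheme.{u}} (j : X ⟶ Y) [IsOpenImmersion j] {P G : Y.Modules}
    (π : P ⟶ G) [Epi π] (h : ∀ x : X, Function.Injective (Modules.StalkModule.stalkMapₗ π (j x))) :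
    IsIso ((Scheme.Modules.restrictFunctor j).map π) := by
  haveI : Epi ((Scheme.Modules.restrictFunctor j).map π) := Functor.map_epi _ π
  haveI : Mono ((Scheme.Modules.restrictFunctor j).map π) := by
    refine StrictTransform.mono_of_torsionFree _ fun V m hm => ?_
    have hm' : π.app (j ''ᵁ V.1) m = 0 := hm
    refine TopCat.Presheaf.section_ext ⟨P.presheaf, P.isSheaf⟩ (j ''ᵁ V.1) m 0 fun y hy => ?_
    refine Eq.trans ?_ (map_zero (P.presheaf.germ (j ''ᵁ V.1) y hy).hom).symm
    obtain ⟨x, -, rfl⟩ := (show y ∈ j '' (V.1 : Set X) from hy)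
    apply h x
    rw [map_zero]
    refine (Modules.StalkModule.stalkMapₗ_germ π hy m).trans ?_
    rw [hm', map_zero]
  exact isIso_of_mono_of_epi _

/-- The rank of the members of a family of modules, as a function of the point. -/
abbrev rankFun {X : Scheme.{u}} {ι : Type v} (E : ι → X.Modules) (x : X) (i : ι) : ℕ :=
  Module.finrank (X.presheaf.stalk x) ((E i).presheaf.stalk x)

theorem rankFun_spec {X : Scheme.{u}} {ι : Type v} [Finite ι] (E : ι → X.Modules)
    (hE : ∀ i, FlatMod.IsFinLocFree (E i)) :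
    IsLocallyConstant (rankFun E) ∧ ∀ i x, ∃ V : X.Opens, x ∈ V ∧
      Nonempty ((E i).restrict V.ι ≅ FlatMod.freeMod (↑V) (rankFun E x i)) ∧
      ∀ y ∈ V, rankFun E y i = rankFun E x i := by
  classical
  cases nonempty_fintype ι
  let r : X → ι → ℕ := rankFun E
  have hr : ∀ i x, ∃ V : X.Opens, x ∈ V ∧ Nonempty ((E i).restrict V.ι ≅ FlatMod.freeMod (↑V) (r x i)) ∧
      ∀ y ∈ V, r y i = r x i := fun i x => by
    obtain ⟨V, n, hxV, ⟨e⟩⟩ := hE i x
    have hn : ∀ y ∈ V, r y i = n := fun y hy =>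
      (StrictTransform.stalk_of_free' V.ι e ⟨y, hy⟩).2.1
    refine ⟨V, hxV, ?_, fun y hy => (hn y hy).trans (hn x hxV).symm⟩
    rw [hn x hxV]
    exact ⟨e⟩
  have hrc : IsLocallyConstant r := by
    rw [IsLocallyConstant.iff_eventually_eq]
    intro x
    have : ∀ᶠ y in nhds x, ∀ i, r y i = r x i := Filter.eventually_all.2 fun i => by
      obtain ⟨V, hxV, -, h⟩ := hr i x
      filter_upwards [V.2.mem_nhds hxV] with y hy using h y hy
    filter_upwards [this] with y hy using funext hy
  exact ⟨hrc, hr⟩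

/-- Modification of a noetherian compactification labelled by the ranks, to which the modules extend. -/
theorem exists_blowUp_extending {X Y : Scheme.{u}} [IsNoetherian Y] [CompactSpace X] (j : X ⟶ Y)
    [IsOpenImmersion j] [QuasiCompact j] {ι : Type v} [Finite ι] (E : ι → X.Modules)
    (hE : ∀ i, FlatMod.IsFinLocFree (E i)) (ψ : Y → ι → ℕ) (hψ : IsLocallyConstant ψ)
    (hψj : ∀ x, ψ (j x) = rankFun E x) :
    ∃ (X' : Scheme.{u}) (j' : X ⟶ X') (b : X' ⟶ Y) (D : X'.IdealSheafData),
      (∃ I : Y.IdealSheafData, BlowUp.IsBlowUp b I ∧ ∀ V, (I.ideal V).FG) ∧ IsProper b ∧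
      IsOpenImmersion j' ∧ QuasiCompact j' ∧ IsSchemeTheoreticallyDominant j' ∧ j' ≫ b = j ∧
      BlowUp.IsEffCartierIdeal D ∧ (D.support : Set X') = (Set.range j')ᶜ ∧
      ∀ i, ∃ E' : X'.Modules, FlatMod.IsFinLocFree E' ∧
        Nonempty ((Scheme.Modules.pullback j').obj E' ≅ E i) := by
  classical
  cases nonempty_fintype ι
  let r : X → ι → ℕ := rankFun E
  have hr := (rankFun_spec E hE).2
  let U : Y.Opens := j.opensRange
  let e : X ≅ (U : Scheme.{u}) := j.isoOpensRange
  have he : e.hom ≫ U.ι = j := j.isoOpensRange_hom_ι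
  have hF : ∀ i, ∃ F : Y.Modules, Coh.IsCoh F ∧
      Nonempty ((Scheme.Modules.pullback j).obj F ≅ E i) := fun i => by
    obtain ⟨F, hF, ⟨a⟩⟩ := H78.Formal.Extend.exists_extension U
      (H78.Formal.Extend.isCoh_pull e.inv (isCoh_of_isFinLocFree (hE i)))
    refine ⟨F, hF, ⟨?_⟩⟩
    exact (Scheme.Modules.pullbackCongr he.symm).app F ≪≫
      ((Scheme.Modules.pullbackComp e.hom U.ι).app F).symm ≪≫
      (Scheme.Modules.pullback e.hom).mapIso
        (((Scheme.Modules.restrictFunctorIsoPullback U.ι).app F).symm ≪≫ a) ≪≫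
      (Scheme.Modules.pullbackComp e.hom e.inv).app (E i) ≪≫
      (Scheme.Modules.pullbackCongr e.hom_inv_id).app (E i) ≪≫
      (Scheme.Modules.pullbackId X).app (E i)
  choose F hFc hFj using hF
  have hfree : ∀ i, ∀ y ∈ U, Fitt.ideal (Y.presheaf.stalk y) ((F i).presheaf.stalk y) (ψ y i) = ⊤ ∧
      ∀ k < ψ y i, Fitt.ideal (Y.presheaf.stalk y) ((F i).presheaf.stalk y) k = ⊥ := by
    rintro i _ ⟨x, rfl⟩
    obtain ⟨V, hxV, ⟨a⟩, -⟩ := hr i x
    obtain ⟨a'⟩ := hFj i
    obtain ⟨h1, h2, h3⟩ := StrictTransform.stalk_of_free' (F := F i) (V.ι ≫ j)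
      ((Scheme.Modules.restrictFunctorIsoPullback (V.ι ≫ j)).app (F i) ≪≫
        ((Scheme.Modules.pullbackComp V.ι j).app (F i)).symm ≪≫
        (Scheme.Modules.pullback V.ι).mapIso a' ≪≫
        ((Scheme.Modules.restrictFunctorIsoPullback V.ι).app (E i)).symm ≪≫ a) ⟨x, hxV⟩
    change Module.Free (Y.presheaf.stalk (j x)) ((F i).presheaf.stalk (j x)) at h1
    change Module.Finite (Y.presheaf.stalk (j x)) ((F i).presheaf.stalk (j x)) at h3
    change Module.finrank (Y.presheaf.stalk (j x)) ((F i).presheaf.stalk (j x)) = r x i at h2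
    rw [hψj]
    exact ⟨H25.Fitting.ideal_eq_top _ (Module.finBasis _ _).span_eq h2.le,
      fun k hk => H25.Fitting.ideal_eq_bot_of_free (h2.symm ▸ hk)⟩
  obtain ⟨X', b, D, hbl, hb, hD, hDs, hiso, hnoeth, hG⟩ :=
    exists_blowUp_quotients' U F hFc (fun i y => ψ y i) (fun i => hψ.comp fun a => a i) hfree
  haveI := hb
  haveI := hiso
  haveI := hnoeth
  haveI : CompactSpace X' := QuasiCompact.compactSpace_of_compactSpace b
  haveI : IsNoetherian X' := {}
  let j' : X ⟶ X' := e.hom ≫ inv (b ∣_ U) ≫ (b ⁻¹ᵁ U).ι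
  haveI : IsOpenImmersion j' := inferInstance
  have hjb : j' ≫ b = j := by
    simp only [j', Category.assoc]
    rw [← morphismRestrict_ι, IsIso.inv_hom_id_assoc, he]
  have hrange : Set.range j' = b ⁻¹' (U : Set Y) := by
    simp only [j', Scheme.Hom.comp_base, TopCat.coe_comp, Set.range_comp,
      (e.hom.surjective).range_eq, Set.image_univ, (inv (b ∣_ U)).surjective.range_eq,
      Scheme.Opens.range_ι]
    rfl
  haveI : QuasiCompact j' := quasiCompact_of_compactSpace j'
  have hdom : IsSchemeTheoreticallyDominant j' := by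
    refine ⟨le_bot_iff.1 fun W a ha => ?_⟩
    rw [Scheme.Hom.ker_apply, RingHom.mem_ker] at ha
    rw [Scheme.IdealSheafData.ideal_bot]
    refine Ideal.EffCartier.eq_zero_of_germ_eq_zero_off hD a fun z hz hzs => ?_
    obtain ⟨x, rfl⟩ : z ∈ Set.range j' := by
      rw [hrange]
      by_contra h
      exact hzs (hDs.ge h)
    apply (ConcreteCategory.bijective_of_isIso (j'.stalkMap x)).injective
    refine ((Scheme.Hom.germ_stalkMap_apply j' W.1 x hz a).trans
      ((congrArg _ ha).trans (map_zero _))).trans ?_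
    exact (map_zero _).symm
  refine ⟨X', j', b, D, hbl, inferInstance, inferInstance, inferInstance, hdom, hjb, hD,
    by rw [hDs, hrange], fun i => ?_⟩
  obtain ⟨G, π, hπ, -, hGf, hker⟩ := hG i
  obtain ⟨a'⟩ := hFj i
  refine ⟨G, hGf, ⟨?_⟩⟩
  haveI := hπ
  haveI : IsIso ((Scheme.Modules.restrictFunctor j').map π) :=
    isIso_restrict_map j' π fun x => injective_of_notMem hD hker
      fun h => hDs.le h (hrange.le ⟨x, rfl⟩)
  exact ((Scheme.Modules.restrictFunctorIsoPullback j').app G).symm ≪≫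
    (asIso ((Scheme.Modules.restrictFunctor j').map π)).symm ≪≫
    (Scheme.Modules.restrictFunctorIsoPullback j').app _ ≪≫
    (Scheme.Modules.pullbackComp j' b).app (F i) ≪≫
    (Scheme.Modules.pullbackCongr hjb).app (F i) ≪≫ a'


/-- The compactification theorem. -/
theorem exists_compactification_extending {S X : Scheme.{u}} (f : X ⟶ S)
    [IsNoetherian S] [IsSeparated f] [QuasiCompact f] [LocallyOfFiniteType f]
    {ι : Type v} [Finite ι] (E : ι → X.Modules) (hE : ∀ i, FlatMod.IsFinLocFree (E i)) :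
    ∃ (X' : Scheme.{u}) (j : X ⟶ X') (g : X' ⟶ S) (D : X'.IdealSheafData), IsOpenImmersion j ∧
      QuasiCompact j ∧ IsSchemeTheoreticallyDominant j ∧ IsProper g ∧ j ≫ g = f ∧
      BlowUp.IsEffCartierIdeal D ∧ (D.support : Set X') = (Set.range j)ᶜ ∧
      ∀ i, ∃ E' : X'.Modules, FlatMod.IsFinLocFree E' ∧
        Nonempty ((Scheme.Modules.pullback j).obj E' ≅ E i) := by
  classical
  obtain ⟨Y, j, g, ψ, hj, hjq, hg, hjg, hψ, hψj⟩ :=
    exists_labelled_compactification f (rankFun E) (rankFun_spec E hE).1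
  haveI := hj
  haveI := hjq
  haveI := hg
  haveI : IsLocallyNoetherian Y := LocallyOfFiniteType.isLocallyNoetherian g
  haveI : CompactSpace Y := QuasiCompact.compactSpace_of_compactSpace g
  haveI : IsNoetherian Y := {}
  haveI : CompactSpace X := QuasiCompact.compactSpace_of_compactSpace f
  obtain ⟨X', j', b, D, -, hb, h1, h2, h3, h4, h5, h6, h7⟩ := exists_blowUp_extending j E hE ψ hψ hψj
  haveI := hb
  exact ⟨X', j', b ≫ g, D, h1, h2, h3, inferInstance, by rw [reassoc_of% h4, hjg], h5, h6, h7⟩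

end Groth.Agent.H22.ExtendFree
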