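import Groth.Agent.H22.ExtendFree.Main
import Groth.Agent.Lib.Perfect.Top
import Groth.Agent.Lib.Modules.Local

/-!
# Extending short exact sequences of locally free modules to a compactification
-/

set_option autoImplicit false
set_option maxHeartbeats 1000000

noncomputable section

universe u

open CategoryTheory CategoryTheory.Limits AlgebraicGeometry TopologicalSpace Opposite

namespace Groth.Agent.H22.ExtendFree

open Groth.Agent Groth.Agent.Lib

/-- Coherent modules extend along open immersions into Noetherian schemes. -/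
theorem exists_extension_along {X Y : Scheme.{u}} [IsNoetherian Y] (j : X ⟶ Y) [IsOpenImmersion j]
    (E : X.Modules) (hE : Coh.IsCoh E) :
    ∃ F : Y.Modules, Coh.IsCoh F ∧ Nonempty ((Scheme.Modules.restrictFunctor j).obj F ≅ E) := by
  let U : Y.Opens := j.opensRange
  let e : X ≅ (U : Scheme.{u}) := j.isoOpensRange
  have he : e.hom ≫ U.ι = j := j.isoOpensRange_hom_ι
  obtain ⟨F, hF, ⟨a⟩⟩ := H78.Formal.Extend.exists_extension U (H78.Formal.Extend.isCoh_pull e.inv hE)
  refine ⟨F, hF, ⟨?_⟩⟩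
  exact (Scheme.Modules.restrictFunctorIsoPullback j).app F ≪≫
    (Scheme.Modules.pullbackCongr he.symm).app F ≪≫
    ((Scheme.Modules.pullbackComp e.hom U.ι).app F).symm ≪≫
    (Scheme.Modules.pullback e.hom).mapIso
      (((Scheme.Modules.restrictFunctorIsoPullback U.ι).app F).symm ≪≫ a) ≪≫
    (Scheme.Modules.pullbackComp e.hom e.inv).app E ≪≫
    (Scheme.Modules.pullbackCongr e.hom_inv_id).app E ≪≫
    (Scheme.Modules.pullbackId X).app E

/-- Fitting ideals on the image of an open immersion over which the module is locally free. -/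
theorem fitt_of_restrict_iso {X Y : Scheme.{u}} (j : X ⟶ Y) [IsOpenImmersion j] {F : Y.Modules}
    {E : X.Modules} (hE : FlatMod.IsFinLocFree E)
    (a : (Scheme.Modules.restrictFunctor j).obj F ≅ E) (x : X) :
    Fitt.ideal (Y.presheaf.stalk (j x)) (F.presheaf.stalk (j x))
        (Module.finrank (X.presheaf.stalk x) (E.presheaf.stalk x)) = ⊤ ∧
      ∀ k < Module.finrank (X.presheaf.stalk x) (E.presheaf.stalk x),
        Fitt.ideal (Y.presheaf.stalk (j x)) (F.presheaf.stalk (j x)) k = ⊥ := by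
  obtain ⟨V, n, hxV, ⟨c⟩⟩ := hE x
  have hn : Module.finrank (X.presheaf.stalk x) (E.presheaf.stalk x) = n :=
    (StrictTransform.stalk_of_free' V.ι c ⟨x, hxV⟩).2.1
  obtain ⟨h1, h2, h3⟩ := StrictTransform.stalk_of_free' (F := F) (V.ι ≫ j)
    ((Scheme.Modules.restrictFunctorComp V.ι j).app F ≪≫
      (Scheme.Modules.restrictFunctor V.ι).mapIso a ≪≫ c) ⟨x, hxV⟩
  change Module.Free (Y.presheaf.stalk (j x)) (F.presheaf.stalk (j x)) at h1
  change Module.Finite (Y.presheaf.stalk (j x)) (F.presheaf.stalk (j x)) at h3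
  change Module.finrank (Y.presheaf.stalk (j x)) (F.presheaf.stalk (j x)) = n at h2
  rw [hn]
  exact ⟨H25.Fitting.ideal_eq_top _ (Module.finBasis _ _).span_eq h2.le,
    fun k hk => H25.Fitting.ideal_eq_bot_of_free (h2.symm ▸ hk)⟩

/-- A quotient torsion-free quotient map factors. -/
theorem exists_desc {X : Scheme.{u}} {E : X.IdealSheafData} (hE : BlowUp.IsEffCartierIdeal E)
    {P Q G H : X.Modules} (bp : P ⟶ Q) [Epi bp] (π : P ⟶ G) [Epi π] (π' : Q ⟶ H) [Epi π']
    (h : TorsionKer E π) (h' : TorsionKer E π') :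
    ∃ g : G ⟶ H, Epi g ∧ π ≫ g = bp ≫ π' := by
  have hz : kernel.ι π ≫ bp ≫ π' = 0 := by
    refine Modules.StalkModule.hom_ext_stalkMapₗ fun x => LinearMap.ext fun v => ?_
    rw [Modules.StalkModule.stalkMapₗ_zero, LinearMap.zero_apply, Modules.StalkModule.stalkMapₗ_comp,
      Modules.StalkModule.stalkMapₗ_comp, LinearMap.comp_apply, LinearMap.comp_apply]
    obtain ⟨W, hxW, -, t, -, htW⟩ := Ideal.EffCartier.exists_gen hE x (W := ⊤) trivial
    have h0 : Modules.StalkModule.stalkMapₗ π x (Modules.StalkModule.stalkMapₗ (kernel.ι π) x v) = 0 := by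
      rw [← LinearMap.comp_apply, ← Modules.StalkModule.stalkMapₗ_comp, kernel.condition,
        Modules.StalkModule.stalkMapₗ_zero, LinearMap.zero_apply]
    obtain ⟨n, hn⟩ := (h x W hxW t htW _).1 h0
    refine (h' x W hxW t htW _).2 ⟨n, ?_⟩
    rw [← map_smul, hn, map_zero]
  refine ⟨Abelian.epiDesc π (bp ≫ π') hz, ?_, Abelian.comp_epiDesc π _ hz⟩
  haveI : Epi (π ≫ Abelian.epiDesc π (bp ≫ π') hz) := by
    rw [Abelian.comp_epiDesc]; infer_instance
  exact epi_of_epi π _

/-- Short exact sequences of locally free modules extend to a compactification. -/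
theorem exists_compactification_extending_seq {S₀ X : Scheme.{u}} (f : X ⟶ S₀)
    [IsNoetherian S₀] [IsSeparated f] [QuasiCompact f] [LocallyOfFiniteType f]
    (S : ShortComplex X.Modules) (hS : S.ShortExact)
    (h₂ : FlatMod.IsFinLocFree S.X₂) (h₃ : FlatMod.IsFinLocFree S.X₃) :
    ∃ (Xb : Scheme.{u}) (j : X ⟶ Xb) (g : Xb ⟶ S₀) (E : Xb.IdealSheafData),
      IsOpenImmersion j ∧ IsProper g ∧ j ≫ g = f ∧
      BlowUp.IsEffCartierIdeal E ∧ (E.support : Set Xb) = (Set.range j.base)ᶜ ∧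
      ∃ (T : ShortComplex Xb.Modules), T.ShortExact ∧
        FlatMod.IsFinLocFree T.X₁ ∧ FlatMod.IsFinLocFree T.X₂ ∧ FlatMod.IsFinLocFree T.X₃ ∧
        ∃ (e₁ : (Scheme.Modules.pullback j).obj T.X₁ ≅ S.X₁) (e₂ : (Scheme.Modules.pullback j).obj T.X₂ ≅ S.X₂)
          (e₃ : (Scheme.Modules.pullback j).obj T.X₃ ≅ S.X₃),
          (Scheme.Modules.pullback j).map T.f ≫ e₂.hom = e₁.hom ≫ S.f ∧
          (Scheme.Modules.pullback j).map T.g ≫ e₃.hom = e₂.hom ≫ S.g := by
  classical
  let E' : Bool → X.Modules := fun i => cond i S.X₂ S.X₃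
  have hE' : ∀ i, FlatMod.IsFinLocFree (E' i) := fun i => by cases i; exacts [h₃, h₂]
  let r : X → Bool → ℕ := fun x i => Module.finrank (X.presheaf.stalk x) ((E' i).presheaf.stalk x)
  have hrc : IsLocallyConstant r := by
    rw [IsLocallyConstant.iff_eventually_eq]
    intro x
    have : ∀ᶠ y in nhds x, ∀ i, r y i = r x i := Filter.eventually_all.2 fun i => by
      obtain ⟨V, n, hxV, ⟨e⟩⟩ := hE' i x
      have hn : ∀ y ∈ V, r y i = n := fun y hy =>
        (StrictTransform.stalk_of_free' V.ι e ⟨y, hy⟩).2.1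
      filter_upwards [V.2.mem_nhds hxV] with y hy using (hn y hy).trans (hn x hxV).symm
    filter_upwards [this] with y hy using funext hy
  obtain ⟨Y, j, g, ψ, hj, hjq, hg, hjg, hψ, hψj⟩ := exists_labelled_compactification f r hrc
  haveI := hj
  haveI := hjq
  haveI := hg
  haveI : IsLocallyNoetherian Y := LocallyOfFiniteType.isLocallyNoetherian g
  haveI : CompactSpace Y := QuasiCompact.compactSpace_of_compactSpace g
  haveI : IsNoetherian Y := {}
  obtain ⟨F₂, hF₂, ⟨a₂⟩⟩ := exists_extension_along j S.X₂ (isCoh_of_isFinLocFree h₂)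
  haveI := hF₂.1
  haveI := hF₂.2
  haveI : S.X₃.IsQuasicoherent := (isCoh_of_isFinLocFree h₃).1
  haveI : ((Scheme.Modules.pushforward j).obj S.X₃).IsQuasicoherent :=
    QCoh.Pushforward.isQCoh_pushforward (f := j)
  let φ : F₂ ⟶ (Scheme.Modules.pushforward j).obj S.X₃ :=
    (Scheme.Modules.restrictAdjunction j).homEquiv F₂ S.X₃ (a₂.hom ≫ S.g)
  let p : F₂ ⟶ Abelian.image φ := Abelian.factorThruImage φ
  haveI : Epi p := inferInstanceAs (Epi (Abelian.factorThruImage φ))
  haveI : (Abelian.image φ).IsQuasicoherent := by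
    haveI := QCoh.Closure.isQCoh_cokernel φ
    exact QCoh.Closure.isQCoh_kernel (cokernel.π φ)
  have hF₃ : Coh.IsCoh (Abelian.image φ) := ⟨inferInstance, StrictTransform.isFT_of_epi p⟩
  let R := Scheme.Modules.restrictFunctor j
  haveI : Epi S.g := hS.epi_g
  let c₃ : R.obj (Abelian.image φ) ⟶ S.X₃ :=
    R.map (Abelian.image.ι φ) ≫ (Scheme.Modules.restrictAdjunction j).counit.app S.X₃
  have hc₃ : R.map p ≫ c₃ = a₂.hom ≫ S.g := by
    simp only [c₃, p]
    rw [← Category.assoc, ← R.map_comp, Abelian.image.fac]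
    exact ((Scheme.Modules.restrictAdjunction j).homEquiv_counit (g := φ)).symm.trans
      (((Scheme.Modules.restrictAdjunction j).homEquiv F₂ S.X₃).symm_apply_apply _)
  haveI : Mono c₃ := by
    simp only [c₃]
    infer_instance
  haveI : Epi c₃ := by
    haveI : Epi (R.map p ≫ c₃) := by rw [hc₃]; infer_instance
    exact epi_of_epi (R.map p) c₃
  haveI : IsIso c₃ := isIso_of_mono_of_epi c₃
  let a₃ : R.obj (Abelian.image φ) ≅ S.X₃ := asIso c₃
  let F : Bool → Y.Modules := fun i => cond i F₂ (Abelian.image φ)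
  have hfree : ∀ i, ∀ y ∈ j.opensRange,
      Fitt.ideal (Y.presheaf.stalk y) ((F i).presheaf.stalk y) (ψ y i) = ⊤ ∧
      ∀ k < ψ y i, Fitt.ideal (Y.presheaf.stalk y) ((F i).presheaf.stalk y) k = ⊥ := by
    rintro i _ ⟨x, rfl⟩
    rw [hψj]
    cases i
    · exact fitt_of_restrict_iso j h₃ a₃ x
    · exact fitt_of_restrict_iso j h₂ a₂ x
  obtain ⟨X', b, D, hb, hD, hDs, hiso, hnoeth, hG⟩ :=
    exists_blowUp_quotients j.opensRange F (fun i => by cases i; exacts [hF₃, hF₂])
      (fun i y => ψ y i) (fun i => hψ.comp fun a => a i) hfree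
  haveI := hb
  haveI := hiso
  let j' : X ⟶ X' := j.isoOpensRange.hom ≫ inv (b ∣_ j.opensRange) ≫ (b ⁻¹ᵁ j.opensRange).ι
  haveI : IsOpenImmersion j' := inferInstance
  have hjb : j' ≫ b = j := by
    simp only [j', Category.assoc]
    rw [← morphismRestrict_ι, IsIso.inv_hom_id_assoc, j.isoOpensRange_hom_ι]
  have hrange : Set.range j' = b ⁻¹' (j.opensRange : Set Y) := by
    simp only [j', Scheme.Hom.comp_base, TopCat.coe_comp, Set.range_comp,
      (j.isoOpensRange.hom.surjective).range_eq, Set.image_univ,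
      (inv (b ∣_ j.opensRange)).surjective.range_eq, Scheme.Opens.range_ι]
    rfl
  obtain ⟨G₂, π₂, hπ₂, -, hG₂, hk₂⟩ := hG true
  obtain ⟨G₃, π₃, hπ₃, -, hG₃, hk₃⟩ := hG false
  haveI := hπ₂
  haveI := hπ₃
  let B := Scheme.Modules.pullback b
  haveI : Epi (B.map p) := Functor.map_epi B p
  obtain ⟨g', hg'epi, hg'⟩ := exists_desc hD (B.map p) π₂ π₃ hk₂ hk₃
  haveI := hg'epi
  let R' := Scheme.Modules.restrictFunctor j'
  have hisoπ : ∀ {P G : X'.Modules} (π : P ⟶ G) [Epi π], TorsionKer D π → IsIso (R'.map π) :=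
    fun π _ hπ => isIso_restrict_map j' π fun x => injective_of_notMem hD hπ
      fun h => hDs.le h (hrange.le ⟨x, rfl⟩)
  haveI := hisoπ π₂ hk₂
  haveI := hisoπ π₃ hk₃
  let η : B ⋙ R' ≅ R :=
    Functor.isoWhiskerLeft B (Scheme.Modules.restrictFunctorIsoPullback j') ≪≫
      Scheme.Modules.pullbackComp j' b ≪≫ Scheme.Modules.pullbackCongr hjb ≪≫
      (Scheme.Modules.restrictFunctorIsoPullback j).symm
  let d₂ : R'.obj G₂ ≅ S.X₂ := (asIso (R'.map π₂)).symm ≪≫ η.app F₂ ≪≫ a₂
  let d₃ : R'.obj G₃ ≅ S.X₃ := (asIso (R'.map π₃)).symm ≪≫ η.app (Abelian.image φ) ≪≫ a₃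
  have hd : R'.map g' ≫ d₃.hom = d₂.hom ≫ S.g := by
    rw [← cancel_epi (R'.map π₂), ← Category.assoc, ← R'.map_comp, hg', R'.map_comp]
    simp only [d₂, d₃, Iso.trans_hom, Iso.symm_hom, asIso_inv, Category.assoc,
      IsIso.hom_inv_id_assoc, Iso.app_hom]
    rw [← hc₃]
    show R'.map (B.map p) ≫ η.hom.app _ ≫ c₃ = η.hom.app F₂ ≫ R.map p ≫ c₃
    rw [← Category.assoc, ← Category.assoc]
    exact congrArg (· ≫ c₃) (η.hom.naturality p)
  let T : ShortComplex X'.Modules := ShortComplex.mk (kernel.ι g') g' (kernel.condition g')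
  have hT : T.ShortExact :=
    { exact := ShortComplex.exact_of_f_is_kernel T (kernelIsKernel g')
      mono_f := inferInstanceAs (Mono (kernel.ι g'))
      epi_g := hg'epi }
  let ρ := Scheme.Modules.restrictFunctorIsoPullback j'
  let e₂ : (Scheme.Modules.pullback j').obj G₂ ≅ S.X₂ := (ρ.app G₂).symm ≪≫ d₂
  let e₃ : (Scheme.Modules.pullback j').obj G₃ ≅ S.X₃ := (ρ.app G₃).symm ≪≫ d₃
  have he : (Scheme.Modules.pullback j').map g' ≫ e₃.hom = e₂.hom ≫ S.g := by
    simp only [e₂, e₃, Iso.trans_hom, Iso.symm_hom, Iso.app_inv, Category.assoc]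
    rw [← hd, ← Category.assoc, ← Category.assoc]
    exact congrArg (· ≫ d₃.hom) (ρ.inv.naturality g')
  haveI : PreservesFiniteLimits R' := inferInstance
  haveI : PreservesFiniteLimits (Scheme.Modules.pullback j') :=
    preservesFiniteLimits_of_natIso ρ
  have hker : IsLimit (KernelFork.ofι ((Scheme.Modules.pullback j').map (kernel.ι g'))
      (by rw [← Functor.map_comp, kernel.condition, Functor.map_zero]) :
      KernelFork ((Scheme.Modules.pullback j').map g')) :=
    isLimitForkMapOfIsLimit' _ (kernel.condition g') (kernelIsKernel g')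
  let e₁ : (Scheme.Modules.pullback j').obj T.X₁ ≅ S.X₁ :=
    hker.conePointUniqueUpToIso (limit.isLimit _) ≪≫
      kernel.mapIso _ S.g e₂ e₃ he ≪≫
      (limit.isLimit _).conePointUniqueUpToIso hS.fIsKernel
  refine ⟨X', j', b ≫ g, D, inferInstance, inferInstance, by rw [reassoc_of% hjb, hjg], hD,
    by rw [hDs, hrange], T, hT, Perfect.Top.isFinLocFree_kernel g' hG₂ hG₃, hG₂, hG₃, e₁, e₂, e₃,
    ?_, he⟩
  have h1 : (hker.conePointUniqueUpToIso (limit.isLimit _)).hom ≫
      kernel.ι ((Scheme.Modules.pullback j').map g') = (Scheme.Modules.pullback j').map (kernel.ι g') :=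
    IsLimit.conePointUniqueUpToIso_hom_comp hker (limit.isLimit _) WalkingParallelPair.zero
  have h2 : ((limit.isLimit _).conePointUniqueUpToIso hS.fIsKernel).hom ≫ S.f = kernel.ι S.g :=
    IsLimit.conePointUniqueUpToIso_hom_comp (limit.isLimit _) hS.fIsKernel WalkingParallelPair.zero
  show (Scheme.Modules.pullback j').map (kernel.ι g') ≫ e₂.hom = e₁.hom ≫ S.f
  simp only [e₁, Iso.trans_hom, Category.assoc]
  rw [h2]
  simp [kernel.mapIso]

end Groth.Agent.H22.ExtendFree
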